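import Mathlib

/-!
# Power series modulo the products of two distinct variables
-/

set_option autoImplicit false

universe u

open Finset

namespace Groth.Agent.Multicross9

variable (k : Type u) [Field k] (n : ℕ)

/-- The ideal generated by the products of two distinct variables. -/
noncomputable def crossIdeal : Ideal (MvPowerSeries (Fin n) k) :=
  Ideal.span {f : MvPowerSeries (Fin n) k |
    ∃ i j : Fin n, i ≠ j ∧ f = MvPowerSeries.X i * MvPowerSeries.X j}

/-- Restriction of a power series to the `j`-th axis. -/
noncomputable def axis (j : Fin n) : MvPowerSeries (Fin n) k →+* PowerSeries k where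
  toFun f := PowerSeries.mk fun m => MvPowerSeries.coeff (Finsupp.single j m) f
  map_one' := by
    classical
    ext m
    rw [PowerSeries.coeff_mk, MvPowerSeries.coeff_one, PowerSeries.coeff_one]
    simp [Finsupp.single_eq_zero]
  map_zero' := by ext m; simp
  map_add' f g := by ext m; simp
  map_mul' f g := by
    classical
    ext m
    rw [PowerSeries.coeff_mk, MvPowerSeries.coeff_mul, PowerSeries.coeff_mul, Finsupp.antidiagonal_single,
      Finset.sum_map]
    simp

theorem coeff_axis (j : Fin n) (f : MvPowerSeries (Fin n) k) (m : ℕ) :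
    PowerSeries.coeff m (axis k n j f) = MvPowerSeries.coeff (Finsupp.single j m) f :=
  PowerSeries.coeff_mk m (fun m => MvPowerSeries.coeff (Finsupp.single j m) f)

theorem axis_C (j : Fin n) (c : k) : axis k n j (MvPowerSeries.C c) = PowerSeries.C c := by
  classical
  ext m
  rw [coeff_axis, MvPowerSeries.coeff_C, PowerSeries.coeff_C]
  simp [Finsupp.single_eq_zero]

theorem axis_X_self (j : Fin n) : axis k n j (MvPowerSeries.X j) = PowerSeries.X := by
  classical
  ext m
  rw [coeff_axis, MvPowerSeries.coeff_X, PowerSeries.coeff_X]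
  simp [(Finsupp.single_injective j).eq_iff]

theorem axis_X_of_ne {i j : Fin n} (h : i ≠ j) : axis k n j (MvPowerSeries.X i) = 0 := by
  classical
  ext m
  rw [coeff_axis, MvPowerSeries.coeff_X, map_zero, if_neg]
  intro e
  have e1 := congrArg (fun z : Fin n →₀ ℕ => z i) e
  simp [h] at e1

/-- All restrictions to the axes. -/
noncomputable def axes : MvPowerSeries (Fin n) k →+* (Fin n → PowerSeries k) :=
  RingHom.pi fun j => axis k n j

theorem constantCoeff_axis (j : Fin n) (f : MvPowerSeries (Fin n) k) :
    PowerSeries.constantCoeff (axis k n j f) = MvPowerSeries.constantCoeff f := by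
  rw [← PowerSeries.coeff_zero_eq_constantCoeff_apply, coeff_axis, Finsupp.single_zero,
    MvPowerSeries.coeff_zero_eq_constantCoeff_apply]

theorem crossIdeal_le_ker : crossIdeal k n ≤ RingHom.ker (axes k n) := by
  refine Ideal.span_le.2 ?_
  rintro _ ⟨i, j, hij, rfl⟩
  refine RingHom.mem_ker.2 (funext fun l => ?_)
  show axis k n l (MvPowerSeries.X i * MvPowerSeries.X j) = 0
  by_cases h : i = l
  · subst h
    rw [map_mul, axis_X_of_ne k n hij.symm, mul_zero]
  · rw [map_mul, axis_X_of_ne k n h, zero_mul]

theorem exists_axes {v : Fin n → PowerSeries k}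
    (hv : ∀ i j, PowerSeries.constantCoeff (v i) = PowerSeries.constantCoeff (v j)) :
    ∃ f, axes k n f = v := by
  classical
  rcases Nat.eq_zero_or_pos n with hn | hn
  · exact ⟨0, funext fun j => absurd j.2 (by omega)⟩
  let i₀ : Fin n := ⟨0, hn⟩
  let F : MvPowerSeries (Fin n) k := fun d =>
    if h : ∃ j, d = Finsupp.single j (d j) ∧ d j ≠ 0 then PowerSeries.coeff (d h.choose) (v h.choose)
    else if d = 0 then PowerSeries.constantCoeff (v i₀) else 0
  refine ⟨F, funext fun j => PowerSeries.ext fun m => ?_⟩
  show PowerSeries.coeff m (axis k n j F) = _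
  rw [coeff_axis, MvPowerSeries.coeff_apply]
  rcases Nat.eq_zero_or_pos m with hm | hm
  · subst hm
    rw [Finsupp.single_zero]
    simp only [F]
    rw [dif_neg (by simp), if_pos trivial, PowerSeries.coeff_zero_eq_constantCoeff_apply]
    exact hv _ _
  · have he : ∃ l, (Finsupp.single j m : Fin n →₀ ℕ) = Finsupp.single l ((Finsupp.single j m : Fin n →₀ ℕ) l) ∧
        (Finsupp.single j m : Fin n →₀ ℕ) l ≠ 0 := ⟨j, by simp, by simp; omega⟩
    simp only [F, dif_pos he]
    have h2 : he.choose = j := by
      by_contra hc
      exact he.choose_spec.2 (Finsupp.single_eq_of_ne hc)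
    rw [h2, Finsupp.single_eq_same]

theorem ker_axes_le (hn0 : 0 < n) : RingHom.ker (axes k n) ≤ crossIdeal k n := by
  classical
  intro f hf
  have h0 : ∀ (j : Fin n) (m : ℕ), MvPowerSeries.coeff (Finsupp.single j m) f = 0 := fun j m => by
    rw [← coeff_axis, show axis k n j f = 0 from congrFun (RingHom.mem_ker.1 hf) j, map_zero]
  let s : Fin n × Fin n → (Fin n →₀ ℕ) := fun p => Finsupp.single p.1 1 + Finsupp.single p.2 1
  -- every monomial of `f` is divisible by some product of two distinct variables
  have hp : ∀ d : Fin n →₀ ℕ, MvPowerSeries.coeff d f ≠ 0 → ∃ p : Fin n × Fin n, p.1 ≠ p.2 ∧ s p ≤ d := by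
    intro d hd
    by_contra hc
    push Not at hc
    rcases d.support.eq_empty_or_nonempty with he | ⟨i, hi⟩
    · rcases Nat.eq_zero_or_pos n with hn | hn
      · omega
      · rw [Finsupp.support_eq_empty.1 he, ← Finsupp.single_zero (a := (⟨0, hn⟩ : Fin n))] at hd
        exact hd (h0 _ _)
    · refine hd ?_
      have : d = Finsupp.single i (d i) := by
        ext l
        by_cases hl : i = l
        · subst hl; simp
        · rw [Finsupp.single_apply, if_neg hl]
          by_contra hl0
          refine hc (i, l) hl fun x => ?_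
          have h1 := Finsupp.mem_support_iff.1 hi
          simp only [s, Finsupp.add_apply, Finsupp.single_apply]
          split_ifs <;> first | omega | (subst_vars; omega)
      rw [this]; exact h0 _ _
  let P : (Fin n →₀ ℕ) → Option (Fin n × Fin n) := fun d =>
    if h : ∃ p : Fin n × Fin n, p.1 ≠ p.2 ∧ s p ≤ d then some h.choose else none
  let g : Fin n × Fin n → MvPowerSeries (Fin n) k := fun p e =>
    if P (e + s p) = some p then MvPowerSeries.coeff (e + s p) f else 0
  have hf' : f = ∑ p : Fin n × Fin n, MvPowerSeries.monomial (s p) (1 : k) * g p := by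
    ext d
    rw [map_sum]
    by_cases hd : ∃ p : Fin n × Fin n, p.1 ≠ p.2 ∧ s p ≤ d
    · have hP : P d = some hd.choose := dif_pos hd
      rw [Finset.sum_eq_single hd.choose]
      · rw [MvPowerSeries.coeff_monomial_mul, if_pos hd.choose_spec.2, one_mul,
          ]
        show _ = g hd.choose (d - s hd.choose)
        simp only [g, tsub_add_cancel_of_le hd.choose_spec.2, hP, if_true]
      · intro q _ hq
        rw [MvPowerSeries.coeff_monomial_mul]
        split_ifs with hle
        · rw [one_mul, MvPowerSeries.coeff_apply]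
          simp only [g, tsub_add_cancel_of_le hle, hP, Option.some.injEq, hq.symm, if_false]
        · rfl
      · exact fun h => absurd (Finset.mem_univ _) h
    · rw [show MvPowerSeries.coeff d f = 0 from by_contra fun h => hd (hp d h)]
      symm
      refine Finset.sum_eq_zero fun q _ => ?_
      rw [MvPowerSeries.coeff_monomial_mul]
      split_ifs with hle
      · rw [one_mul, MvPowerSeries.coeff_apply]
        simp only [g, tsub_add_cancel_of_le hle, show P d = none from dif_neg hd, reduceCtorEq, if_false]
      · rfl
  rw [hf']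
  refine Ideal.sum_mem _ fun p _ => ?_
  by_cases h : p.1 = p.2
  · have : g p = 0 := funext fun e => by
      show (if P (e + s p) = some p then _ else 0) = 0
      rw [if_neg]
      intro hP
      simp only [P] at hP
      split_ifs at hP with hh
      rw [Option.some.injEq] at hP
      rw [← hP] at h
      exact hh.choose_spec.1 h
    rw [this, mul_zero]
    exact zero_mem _
  · refine Ideal.mul_mem_right _ _ (Ideal.subset_span ⟨p.1, p.2, h, ?_⟩)
    rw [MvPowerSeries.X_def, MvPowerSeries.X_def, MvPowerSeries.monomial_mul_monomial, one_mul]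

/-- The quotient by the products of two distinct variables is the wedge of the axes. -/
theorem exists_lift (hn0 : 0 < n) : ∃ Ψ : (MvPowerSeries (Fin n) k ⧸ crossIdeal k n) →+* (Fin n → PowerSeries k),
    Function.Injective Ψ ∧ (∀ c, Ψ (Ideal.Quotient.mk _ (MvPowerSeries.C c)) = fun _ => PowerSeries.C c) ∧
    Set.range Ψ = {f : Fin n → PowerSeries k |
      ∀ i j : Fin n, PowerSeries.constantCoeff (f i) = PowerSeries.constantCoeff (f j)} := by
  refine ⟨Ideal.Quotient.lift (crossIdeal k n) (axes k n) fun a ha => RingHom.mem_ker.1 (crossIdeal_le_ker k n ha),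
    ?_, fun c => funext fun j => ?_, Set.ext fun v => ⟨?_, fun hv => ?_⟩⟩
  · exact RingHom.lift_injective_of_ker_le_ideal _ _ (ker_axes_le k n hn0)
  · rw [Ideal.Quotient.lift_mk]
    exact axis_C k n j c
  · rintro ⟨z, rfl⟩ i j
    obtain ⟨f, rfl⟩ := Ideal.Quotient.mk_surjective z
    rw [Ideal.Quotient.lift_mk]
    exact (constantCoeff_axis k n i f).trans (constantCoeff_axis k n j f).symm
  · obtain ⟨f, hf⟩ := exists_axes k n hv
    exact ⟨Ideal.Quotient.mk _ f, by rw [Ideal.Quotient.lift_mk, hf]⟩

end Groth.Agent.Multicross9
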