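import Groth.Agent.S7657
import Groth.Agent.VarietyLib.NormRedLocal
import Groth.Agent.CAlgH.GeomDepth
import Groth.Prelude.Def_Brnch
import Groth.Prelude.Def_Curv2
import Mathlib

/-!
# Invariants of a multicross ring
-/

set_option autoImplicit false
set_option linter.style.haveILetI false

universe u

open IsLocalRing

namespace Groth.Agent.Multicross9

variable {k : Type u} [Field k] {R : Type u} [CommRing R] {n : ℕ}
  (φ : R →+* (Fin n → PowerSeries k))

/-- `φ` identifies `R` with the tuples having a common constant term. -/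
def IsWedge : Prop :=
  Function.Injective φ ∧ Set.range φ =
    {f : Fin n → PowerSeries k | ∀ i j : Fin n, PowerSeries.constantCoeff (f i) = PowerSeries.constantCoeff (f j)}

variable {φ} (h : IsWedge φ)
include h

theorem IsWedge.cc (r : R) (i j : Fin n) :
    PowerSeries.constantCoeff (φ r i) = PowerSeries.constantCoeff (φ r j) :=
  h.2.le ⟨r, rfl⟩ i j

theorem IsWedge.exists_pre {f : Fin n → PowerSeries k}
    (hf : ∀ i j : Fin n, PowerSeries.constantCoeff (f i) = PowerSeries.constantCoeff (f j)) : ∃ r, φ r = f :=
  h.2.ge hf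

theorem IsWedge.exists_pre_zero {f : Fin n → PowerSeries k} (hf : ∀ i, PowerSeries.constantCoeff (f i) = 0) :
    ∃ r, φ r = f :=
  h.exists_pre fun i j => by rw [hf i, hf j]

theorem IsWedge.isReduced : IsReduced R :=
  isReduced_of_injective φ h.1

theorem IsWedge.mem_nonZeroDivisors_iff (r : R) : r ∈ nonZeroDivisors R ↔ ∀ j, φ r j ≠ 0 := by
  constructor
  · intro hr j hj
    obtain ⟨z, hz⟩ := h.exists_pre_zero (f := Pi.single j PowerSeries.X) fun i => by
      by_cases hij : i = j
      · subst hij; simp
      · simp [Pi.single_eq_of_ne hij]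
    have hz0 : r * z = 0 := h.1 <| funext fun i => by
      rw [map_mul, map_zero, Pi.mul_apply, hz, Pi.zero_apply]
      by_cases hij : i = j
      · subst hij; rw [hj, zero_mul]
      · rw [Pi.single_eq_of_ne hij, mul_zero]
    have := mem_nonZeroDivisors_iff_left.1 hr z hz0
    rw [this, map_zero] at hz
    exact (PowerSeries.X_ne_zero : (PowerSeries.X : PowerSeries k) ≠ 0) (by simpa using (congrFun hz j).symm)
  · intro hr
    refine mem_nonZeroDivisors_iff_left.2 fun z hz => h.1 (funext fun i => ?_)
    have := congrFun (congrArg φ hz) i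
    rw [map_mul, map_zero, Pi.mul_apply] at this
    rw [map_zero]
    exact (mul_eq_zero.1 this).resolve_left (hr i)

theorem IsWedge.isIntegral_pi (v : Fin n → PowerSeries k) :
    letI := φ.toAlgebra
    IsIntegral R v := by
  classical
  letI := φ.toAlgebra
  obtain ⟨z, hz⟩ := h.exists_pre_zero (f := fun i => v i - PowerSeries.C (PowerSeries.constantCoeff (v i)))
    fun i => by simp
  choose c hc using fun i => h.exists_pre (f := fun _ => PowerSeries.C (PowerSeries.constantCoeff (v i)))
    fun _ _ => rfl
  have he : v = algebraMap R (Fin n → PowerSeries k) z +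
      ∑ i, algebraMap R (Fin n → PowerSeries k) (c i) * Pi.single i 1 := by
    funext j
    rw [Pi.add_apply, Finset.sum_apply, Finset.sum_eq_single j (fun b _ hb => by simp [Pi.single_eq_of_ne hb.symm])
      (fun hh => absurd (Finset.mem_univ _) hh), show algebraMap R (Fin n → PowerSeries k) z = φ z from rfl,
      show algebraMap R (Fin n → PowerSeries k) (c j) = φ (c j) from rfl, hz, Pi.mul_apply, hc, Pi.single_eq_same,
      mul_one, sub_add_cancel]
  rw [he]
  refine isIntegral_algebraMap.add (IsIntegral.sum _ fun i _ => isIntegral_algebraMap.mul ?_)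
  refine ⟨Polynomial.X ^ 2 - Polynomial.X, Polynomial.monic_X_pow_sub ?_, ?_⟩
  · exact lt_of_le_of_lt Polynomial.degree_X_le (by norm_num)
  rw [Polynomial.eval₂_sub, Polynomial.eval₂_X_pow, Polynomial.eval₂_X, pow_two, sub_eq_zero]
  funext j
  by_cases hij : j = i
  · subst hij; simp
  · simp [Pi.single_eq_of_ne hij]

/-- The integral closure is the product of the branches. -/
theorem IsWedge.exists_equiv :
    letI := φ.toAlgebra
    Nonempty ((Fin n → PowerSeries k) ≃ₐ[R] ↥(integralClosure R (FractionRing R))) := by
  classical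
  letI := φ.toAlgebra
  let P := Fin n → PowerSeries k
  let K := FractionRing R
  obtain ⟨t, ht⟩ := h.exists_pre_zero (f := fun _ => PowerSeries.X) fun _ => PowerSeries.constantCoeff_X
  have htn : t ∈ nonZeroDivisors R := (h.mem_nonZeroDivisors_iff t).2 fun j => by
    rw [ht]; exact PowerSeries.X_ne_zero
  let T : nonZeroDivisors R := ⟨t, htn⟩
  choose pre hpre using fun v : P => h.exists_pre_zero (f := fun i => PowerSeries.X * v i) fun i => by simp
  have hT : IsUnit (algebraMap R K t) := IsLocalization.map_units K T
  let ψ₀ : P → K := fun v => IsLocalization.mk' K (pre v) T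
  have hψ : ∀ v, algebraMap R K t * ψ₀ v = algebraMap R K (pre v) := fun v => IsLocalization.mk'_spec' K (pre v) T
  have hval : ∀ (v : P) (b a : R), φ b * v = φ a → algebraMap R K b * ψ₀ v = algebraMap R K a := by
    intro v b a hb
    refine hT.mul_left_cancel ?_
    rw [mul_left_comm, hψ, ← map_mul, ← map_mul]
    refine congrArg _ (h.1 (funext fun i => ?_))
    have := congrFun hb i
    rw [Pi.mul_apply] at this
    rw [map_mul, map_mul, Pi.mul_apply, Pi.mul_apply, hpre, ht, ← this]
    ring
  have hψt : ∀ v, φ t * v = φ (pre v) := fun v => funext fun i => by rw [Pi.mul_apply, hpre, ht]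
  let ψ : P →ₐ[R] K :=
    { toFun := ψ₀
      map_one' := hT.mul_left_cancel (by rw [hval 1 t t (by rw [mul_one]), mul_one])
      map_mul' := fun v w => (hT.mul hT).mul_left_cancel (by
        rw [← map_mul, hval (v * w) (t * t) (pre v * pre w) (by rw [map_mul, map_mul, ← hψt, ← hψt]; ring),
          map_mul, map_mul, ← hψ, ← hψ]
        ring)
      map_zero' := hT.mul_left_cancel (by rw [hval 0 t 0 (by rw [mul_zero, map_zero]), map_zero, mul_zero])
      map_add' := fun v w => hT.mul_left_cancel (by
        rw [hval (v + w) t (pre v + pre w) (by rw [map_add, mul_add, hψt, hψt]), map_add, mul_add, hψ, hψ])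
      commutes' := fun r => hT.mul_left_cancel (by
        rw [hval (algebraMap R P r) t (t * r) (by rw [map_mul]; rfl), map_mul]) }
  have hinj : Function.Injective ψ := (injective_iff_map_eq_zero ψ).2 fun v hv => by
    have h1 : algebraMap R K (pre v) = 0 := by rw [← hψ, show ψ₀ v = 0 from hv, mul_zero]
    have h2 : pre v = 0 := IsFractionRing.injective R K (h1.trans (map_zero _).symm)
    funext i
    have := hpre v
    rw [h2, map_zero] at this
    exact (mul_eq_zero.1 (congrFun this i).symm).resolve_left PowerSeries.X_ne_zero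
  have hrange : ψ.range = integralClosure R K := by
    refine le_antisymm ?_ fun y hy => ?_
    · rintro _ ⟨v, rfl⟩
      exact (h.isIntegral_pi v).map ψ
    · obtain ⟨⟨a, b⟩, hab⟩ := IsLocalization.surj (nonZeroDivisors R) y
      obtain ⟨p, hp, hpy⟩ := hy
      have hv : ∀ j, ∃ q : PowerSeries k, φ a j = φ b j * q := by
        intro j
        let hj : R →+* PowerSeries k := (Pi.evalRingHom (fun _ : Fin n => PowerSeries k) j).comp φ
        let L := FractionRing (PowerSeries k)
        have hb0 : φ b j ≠ 0 := (h.mem_nonZeroDivisors_iff b).1 b.2 j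
        let g : K →+* L := IsLocalization.lift (M := nonZeroDivisors R)
          (g := (algebraMap (PowerSeries k) L).comp hj) fun s => by
            rw [RingHom.comp_apply]
            exact isUnit_iff_ne_zero.2 fun h0 => (h.mem_nonZeroDivisors_iff s).1 s.2 j
              ((map_eq_zero_iff _ (IsFractionRing.injective _ L)).1 h0)
        have hg : ∀ r, g (algebraMap R K r) = algebraMap (PowerSeries k) L (φ r j) :=
          fun r => IsLocalization.lift_eq _ r
        have hint : IsIntegral (PowerSeries k) (g y) := by
          refine ⟨p.map hj, hp.map hj, ?_⟩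
          rw [Polynomial.eval₂_map, show (algebraMap (PowerSeries k) L).comp hj = g.comp (algebraMap R K) from
            RingHom.ext fun r => (hg r).symm, ← Polynomial.hom_eval₂, hpy, map_zero]
        obtain ⟨q, hq⟩ := IsIntegrallyClosed.isIntegral_iff.1 hint
        refine ⟨q, IsFractionRing.injective (PowerSeries k) L ?_⟩
        rw [map_mul, hq, ← hg, ← hg, ← map_mul]
        exact congrArg g ((mul_comm _ _).trans hab).symm
      choose v hv using hv
      refine ⟨v, (IsLocalization.map_units K b).mul_left_cancel ?_⟩
      show algebraMap R K b * ψ₀ v = algebraMap R K b * y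
      rw [hval v b a (funext fun i => (hv i).symm), mul_comm (algebraMap R K b) y, hab]
  exact ⟨(AlgEquiv.ofInjective ψ hinj).trans (Subalgebra.equivOfEq _ _ hrange)⟩

omit [CommRing R] h in
/-- The maximal ideals of the product of the branches. -/
theorem card_maximalSpectrum_pi : ENat.card (MaximalSpectrum (Fin n → PowerSeries k)) = n := by
  classical
  let M : Fin n → MaximalSpectrum (Fin n → PowerSeries k) := fun j =>
    ⟨(maximalIdeal (PowerSeries k)).comap (Pi.evalRingHom (fun _ : Fin n => PowerSeries k) j),
      Ideal.comap_isMaximal_of_surjective _ (Function.surjective_eval j)⟩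
  have hM : Function.Bijective M := by
    constructor
    · intro i j hij
      by_contra hne
      have h1 : (Pi.single i 1 : Fin n → PowerSeries k) ∈ (M j).asIdeal := by
        show (Pi.single i 1 : Fin n → PowerSeries k) j ∈ maximalIdeal (PowerSeries k)
        rw [Pi.single_eq_of_ne (Ne.symm hne)]; exact zero_mem _
      rw [← hij] at h1
      have h2 : (Pi.single i 1 : Fin n → PowerSeries k) i ∈ maximalIdeal (PowerSeries k) := h1
      rw [Pi.single_eq_same] at h2
      exact (maximalIdeal.isMaximal (PowerSeries k)).ne_top ((Ideal.eq_top_iff_one _).2 h2)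
    · intro m
      have hm := m.isMaximal
      obtain ⟨j, hj⟩ : ∃ j, (Pi.single j 1 : Fin n → PowerSeries k) ∉ m.asIdeal := by
        by_contra hc
        push Not at hc
        refine hm.ne_top ((Ideal.eq_top_iff_one _).2 ?_)
        rw [← Finset.univ_sum_single (1 : Fin n → PowerSeries k)]
        exact Ideal.sum_mem _ fun j _ => hc j
      refine ⟨j, MaximalSpectrum.ext (hm.eq_of_le (M j).isMaximal.ne_top fun v hv => ?_).symm⟩
      show v j ∈ maximalIdeal (PowerSeries k)
      by_contra hu
      rw [mem_maximalIdeal, mem_nonunits_iff, not_not] at hu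
      obtain ⟨u, hu⟩ := hu
      refine hj ?_
      have : (Pi.single j 1 : Fin n → PowerSeries k) = v * Pi.single j ↑u⁻¹ := by
        funext i
        by_cases hij : i = j
        · subst hij; simp [← hu]
        · simp [Pi.single_eq_of_ne hij]
      rw [this]
      exact Ideal.mul_mem_right _ _ hv
  rw [← ENat.card_congr (Equiv.ofBijective M hM), ENat.card_eq_coe_fintype_card, Fintype.card_fin]

/-- The number of branches of a wedge. -/
theorem IsWedge.numBranches_eq [IsLocalRing R] [IsNoetherianRing R] : Brnch.numBranches R = n := by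
  haveI := h.isReduced
  letI := φ.toAlgebra
  obtain ⟨e⟩ := h.exists_equiv
  rw [Brnch.numBranches, if_pos (minimalPrimes.finite_of_isNoetherianRing R),
    ENat.card_congr (S7657.maxEquiv ((e.toRingEquiv).trans (VarietyLib.normRedEquiv R (FractionRing R)).symm)),
    card_maximalSpectrum_pi]

/-- The `δ`-invariant of a wedge. -/
theorem IsWedge.deltaInv_add_one (hn : 0 < n) : Curv2.deltaInv R + 1 = n := by
  obtain ⟨m, rfl⟩ : ∃ m, n = m + 1 := ⟨n - 1, by omega⟩
  letI := φ.toAlgebra
  obtain ⟨e⟩ := h.exists_equiv
  let P := Fin (m + 1) → PowerSeries k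
  let ρ : R →+* k := PowerSeries.constantCoeff.comp ((Pi.evalRingHom (fun _ : Fin (m+1) => PowerSeries k) 0).comp φ)
  letI : Module R (Fin m → k) := Module.compHom _ ρ
  have hρ : Function.Surjective ρ := fun c => by
    obtain ⟨r, hr⟩ := h.exists_pre (f := fun _ => PowerSeries.C c) fun _ _ => rfl
    exact ⟨r, by show PowerSeries.constantCoeff (φ r 0) = c; rw [hr, PowerSeries.constantCoeff_C]⟩
  let g : P →ₗ[R] (Fin m → k) :=
    { toFun := fun v j => PowerSeries.constantCoeff (v j.succ) - PowerSeries.constantCoeff (v 0)
      map_add' := fun v w => funext fun j => by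
        show PowerSeries.constantCoeff (v j.succ + w j.succ) - PowerSeries.constantCoeff (v 0 + w 0) = (_ - _) + (_ - _)
        rw [map_add, map_add]; ring
      map_smul' := fun r v => funext fun j => by
        show PowerSeries.constantCoeff (φ r j.succ * v j.succ) - PowerSeries.constantCoeff (φ r 0 * v 0) =
          PowerSeries.constantCoeff (φ r 0) * (PowerSeries.constantCoeff (v j.succ) - PowerSeries.constantCoeff (v 0))
        rw [map_mul, map_mul, h.cc r j.succ 0]; ring }
  have hgs : Function.Surjective g := fun w =>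
    ⟨Fin.cons 0 (fun j => PowerSeries.C (w j)), funext fun j => by simp [g]⟩
  have hker : LinearMap.ker g = LinearMap.range (Algebra.linearMap R P) := by
    ext v
    constructor
    · intro hv
      have hv' : ∀ i, PowerSeries.constantCoeff (v i) = PowerSeries.constantCoeff (v 0) := by
        intro i
        refine Fin.cases rfl (fun j => sub_eq_zero.1 (congrFun (LinearMap.mem_ker.1 hv) j)) i
      obtain ⟨r, hr⟩ := h.exists_pre fun i j => (hv' i).trans (hv' j).symm
      exact ⟨r, hr⟩
    · rintro ⟨r, rfl⟩
      exact LinearMap.mem_ker.2 (funext fun j => sub_eq_zero.2 (h.cc r j.succ 0))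
  have h1 : Curv2.deltaInv R = Module.length R (Fin m → k) := by
    unfold Curv2.deltaInv
    rw [← (g.quotKerEquivOfSurjective hgs).length_eq]
    refine ((Submodule.Quotient.equiv _ _ e.toLinearEquiv ?_).length_eq).symm
    rw [hker]
    refine Submodule.ext fun y => ⟨?_, ?_⟩
    · rintro ⟨_, ⟨r, rfl⟩, rfl⟩
      exact ⟨r, (e.commutes r).symm⟩
    · rintro ⟨r, rfl⟩
      exact ⟨_, ⟨r, rfl⟩, e.commutes r⟩
  have h2 : Module.length R (Fin m → k) = Module.length k (Fin m → k) := by
    letI := ρ.toAlgebra
    haveI : IsScalarTower R k (Fin m → k) := IsScalarTower.of_algebraMap_smul fun r v => rfl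
    exact Module.length_eq_of_surjective hρ
  rw [h1, h2, Module.length_eq_finrank, Module.finrank_fin_fun]
  push_cast
  rfl

/-- The embedding dimension of a wedge. -/
theorem IsWedge.spanFinrank_maximalIdeal [IsLocalRing R] [IsNoetherianRing R] (hn : 0 < n) :
    (maximalIdeal R).spanFinrank = n := by
  classical
  have hmax : ∀ r : R, r ∈ maximalIdeal R ↔ ∀ j, PowerSeries.constantCoeff (φ r j) = 0 := by
    intro r
    refine ⟨fun hr j => by_contra fun h0 => hr ?_, fun h0 hu => ?_⟩
    · obtain ⟨s, hs⟩ := h.exists_pre (f := fun a => (φ r a)⁻¹) fun a b => by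
        rw [PowerSeries.constantCoeff_inv, PowerSeries.constantCoeff_inv, h.cc r a b]
      refine IsUnit.of_mul_eq_one s (h.1 (funext fun a => ?_))
      rw [map_mul, hs, map_one, Pi.mul_apply, Pi.one_apply]
      exact PowerSeries.mul_inv_cancel _ (by rw [h.cc r a j]; exact h0)
    · have h1 : IsUnit (φ r ⟨0, hn⟩) :=
        (hu.map φ).map (Pi.evalRingHom (fun _ => PowerSeries k) (⟨0, hn⟩ : Fin n))
      exact (PowerSeries.isUnit_constantCoeff _ h1).ne_zero (h0 _)
  choose g hg using fun j => h.exists_pre_zero (f := Pi.single j PowerSeries.X) fun i => by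
    by_cases hij : i = j
    · subst hij; simp
    · simp [Pi.single_eq_of_ne hij]
  have hsum : ∀ (a : Fin n → R) (j : Fin n), φ (∑ i, a i * g i) j = φ (a j) j * PowerSeries.X := by
    intro a j
    rw [map_sum, Finset.sum_apply, Finset.sum_eq_single j (fun b _ hb => by
      rw [map_mul, Pi.mul_apply, hg, Pi.single_eq_of_ne hb.symm, mul_zero])
      (fun hh => absurd (Finset.mem_univ _) hh), map_mul, Pi.mul_apply, hg, Pi.single_eq_same]
  have hgm : ∀ j, g j ∈ maximalIdeal R := fun j => (hmax _).2 fun i => by
    rw [hg]
    by_cases hij : i = j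
    · subst hij; simp
    · simp [Pi.single_eq_of_ne hij]
  refine CAlgH.GeomDepth.spanFinrank_eq (g := g) (le_antisymm (Ideal.span_le.2 ?_) fun r hr => ?_) ?_
  · rintro _ ⟨j, rfl⟩
    exact hgm j
  · choose w hw using fun j => PowerSeries.X_dvd_iff.2 ((hmax r).1 hr j)
    obtain ⟨z, hz⟩ := h.exists_pre_zero (f := fun j => w j - PowerSeries.C (PowerSeries.constantCoeff (w j)))
      fun j => by simp
    choose c hc using fun j => h.exists_pre (f := fun _ => PowerSeries.C (PowerSeries.constantCoeff (w j)))
      fun _ _ => rfl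
    refine Ideal.mem_span_range_iff_exists_fun.2 ⟨fun j => z + c j, h.1 (funext fun j => ?_)⟩
    rw [hsum, map_add, Pi.add_apply, hz, hc, sub_add_cancel, hw, mul_comm]
  · intro a ha i
    have key : ∀ x ∈ maximalIdeal R * maximalIdeal R, ∀ j, PowerSeries.X * PowerSeries.X ∣ φ x j := by
      intro x hx j
      induction hx using Submodule.mul_induction_on' with
      | mem_mul_mem p hp q hq =>
        rw [map_mul, Pi.mul_apply]
        exact mul_dvd_mul (PowerSeries.X_dvd_iff.2 ((hmax p).1 hp j)) (PowerSeries.X_dvd_iff.2 ((hmax q).1 hq j))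
      | add p _ q _ h1 h2 => rw [map_add]; exact dvd_add h1 h2
    have h1 := key _ ha i
    rw [hsum, mul_dvd_mul_iff_right PowerSeries.X_ne_zero, PowerSeries.X_dvd_iff] at h1
    exact (hmax _).2 fun j => by rw [h.cc (a i) j i]; exact h1

end Groth.Agent.Multicross9
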