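import Groth.Agent.Multicross9.Model
import Groth.Agent.Multicross9.Axes
import Groth.Agent.NormSeq24.FrobH1
import Groth.Agent.NodeLib7.Point
import Groth.Agent.NodeLib7.ClosedSub
import Groth.Agent.EGA4Dim6.GenericFibre
import Groth.Agent.EGA43.DeltaInvariance
import Groth.Agent.EGA43.DeltaBaseChange.Scheme
import Groth.Agent.S9241

/-!
# Multicross points of curves
-/

set_option autoImplicit false
set_option backward.isDefEq.respectTransparency false
set_option linter.style.haveILetI false
set_option maxHeartbeats 1000000

universe u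

open CategoryTheory CategoryTheory.Limits AlgebraicGeometry IsLocalRing

attribute [local instance] Curv2.stalkAlgebra Curv2.resAlgebra

namespace Groth.Agent.Multicross9

variable (k : Type u) [Field k] [IsAlgClosed k] (X : Scheme.{u}) [X.Over (Spec (CommRingCat.of k))]
  [LocallyOfFiniteType (X ↘ (Spec (CommRingCat.of k)))]

omit [IsAlgClosed k] in
include k in
/-- The local ring at a closed point of a reduced curve has dimension one. -/
theorem ringKrullDim_stalk [IsReduced X]
    (hequi : ∀ Z ∈ irreducibleComponents (X : Type u), topologicalKrullDim Z = 1)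
    (x : X) (hx : IsClosed ({x} : Set X)) : ringKrullDim (X.presheaf.stalk x) = 1 := by
  haveI := NodeLib7.isNoetherianRing_stalk k X x
  refine le_antisymm ((EGA4Dim6.stalk_dim_le_dim x).trans (NormSeq24.dim_le_one hequi)) ?_
  by_contra hlt
  rw [not_le] at hlt
  haveI : Ring.KrullDimLE 0 (X.presheaf.stalk x) :=
    Ring.krullDimLE_iff.2 (ENat.WithBot.lt_add_one_iff.1 (by simpa using hlt))
  haveI : IsArtinianRing (X.presheaf.stalk x) := isArtinianRing_iff_krullDimLE_zero.2 inferInstance
  exact NodeLib7.not_isField_stalk hequi hx (IsArtinianRing.isField_of_isReduced_of_isLocalRing _)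

/-- The residue field at a closed point is `k`. -/
theorem residue_bijective (x : X) (hx : IsClosed ({x} : Set X)) :
    Function.Bijective (algebraMap k (ResidueField (X.presheaf.stalk x))) := by
  haveI := (NodeLib7.isClosed_iff_finite k X x).1 hx
  exact IsAlgClosed.algebraMap_bijective_of_isIntegral (k := k) (K := ResidueField (X.presheaf.stalk x))

omit [IsAlgClosed k] in
/-- Branches, `δ` and embedding dimension of a multicross point. -/
theorem invariants [IsReduced X]
    (hequi : ∀ Z ∈ irreducibleComponents (X : Type u), topologicalKrullDim Z = 1)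
    (x : X) (hx : IsClosed ({x} : Set X)) (n : ℕ)
    (e : Curv2.cpl (X.presheaf.stalk x) ≃+* (MvPowerSeries (Fin n) k ⧸ crossIdeal k n)) :
    Brnch.numBranchesAt X x = n ∧ Curv2.deltaInv (X.presheaf.stalk x) + 1 = n ∧
      Module.finrank (ResidueField (X.presheaf.stalk x)) (CotangentSpace (X.presheaf.stalk x)) = n := by
  let A := X.presheaf.stalk x
  haveI := NodeLib7.isNoetherianRing_stalk k X x
  have hd1 : ringKrullDim A = 1 := ringKrullDim_stalk k X hequi x hx
  haveI : IsNoetherianRing (Curv2.cpl A) := Matlis6.isNoetherianRing_adicCompletion (maximalIdeal A)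
  have hn : 0 < n := by
    by_contra h0
    obtain rfl : n = 0 := by omega
    have hbot : maximalIdeal (Curv2.cpl A) = ⊥ := by
      refine le_bot_iff.1 fun y hy => ?_
      obtain ⟨f, hf⟩ := Ideal.Quotient.mk_surjective (e y)
      by_cases hc : MvPowerSeries.constantCoeff f = 0
      · have hf0 : f = 0 := MvPowerSeries.ext fun d => by
          rw [Subsingleton.elim d 0, MvPowerSeries.coeff_zero_eq_constantCoeff_apply, hc, map_zero]
        rw [Ideal.mem_bot]
        exact e.injective (by rw [← hf, hf0, map_zero, map_zero])
      · refine absurd ?_ hy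
        rw [← e.symm_apply_apply y, ← hf]
        exact ((MvPowerSeries.isUnit_iff_constantCoeff.2 (isUnit_iff_ne_zero.2 hc)).map _).map e.symm
    refine NodeLib7.not_isField_stalk hequi hx (IsLocalRing.isField_iff_maximalIdeal_eq.2 ?_)
    haveI : Module.FaithfullyFlat A (Curv2.cpl A) := Module.FaithfullyFlat.of_flat_of_isLocalHom
    rw [AdicCompletion.maximalIdeal_eq_map,
      Ideal.map_eq_bot_iff_of_injective (FaithfulSMul.algebraMap_injective A (Curv2.cpl A))] at hbot
    exact hbot
  obtain ⟨Ψ, hinj, -, hrange⟩ := exists_lift k n hn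
  let φ : Curv2.cpl A →+* (Fin n → PowerSeries k) := Ψ.comp e.toRingHom
  have hW : IsWedge φ := ⟨hinj.comp e.injective, by
    rw [← hrange, RingHom.coe_comp, Set.range_comp,
      show Set.range e.toRingHom = Set.univ from e.surjective.range_eq, Set.image_univ]⟩
  refine ⟨?_, ?_, ?_⟩
  · show Brnch.numBranches A = n
    rw [← (S9241.result A hd1).1]
    exact hW.numBranches_eq
  · rw [← (EGA43.DeltaInvariance.deltaInv_all A (EGA43.DeltaBaseChange.isNagata_stalk k X x) hd1).2.2]
    exact hW.deltaInv_add_one hn
  · rw [← IsLocalRing.spanFinrank_maximalIdeal_eq_finrank_cotangentSpace,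
      ← CAlgH.GeomDepth.spanFinrank_completion (maximalIdeal A), ← AdicCompletion.maximalIdeal_eq_map]
    exact hW.spanFinrank_maximalIdeal hn

end Groth.Agent.Multicross9
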